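import Cfsg.Agent.OddHalf.D4.Cut
import Cfsg.Agent.OddHalf.D9.L34.RowAny

/-!
# ODD half, D4: the row `2.L3(4)` (`RowsCov.l34`)
-/

set_option autoImplicit false

namespace Cfsg.Agent.OddHalf.D4.Cov.L34

open Subgroup Cfsg Cfsg.Agent.OddHalf.Iface Cfsg.Agent.OddHalf.D9.Cut

universe u

/-- `RowsCov.l34` -/
theorem row : Cut.Row0.{u} (fun K _ => Two (fun X _ => XL34 X) K) :=
  fun _ _ C _ S _ h => D9.L34.RowAny.false_of_l34 C S h.1 h.2

end Cfsg.Agent.OddHalf.D4.Cov.L34
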