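import Cfsg.Agent.OddHalf.D4.Spor.TwoCo1
import Cfsg.Agent.OddHalf.D4.Cut

/-!
# ODD, D4: the row `2.Co₁` (`D4.Cut.RowsCov.co1`)
-/

set_option autoImplicit false

namespace Cfsg.Agent.OddHalf.D4.Cov.RowCo1

open Cfsg Subgroup Cfsg.Agent.OddHalf

universe u

/-- **The row `2.Co₁` of D4**, the field `co1` of `D4.Cut.RowsCov`. -/
theorem co1 : D4.Cut.Row0.{u} (fun K _ => D9.Cut.Two (fun X _ => Spor.IsoCo1 X) K) := by
  intro G _ C K S hr hK
  have := C.fin
  have hp : commutator ↥K = ⊤ := S.std.1.1.commutator_eq_top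
  have hcyc : IsCyclic ↥(center ↥K) := isCyclic_of_prime_card (p := 2) hK.1
  have hne : center ↥K ≠ ⊥ := by
    intro h
    have h1 := hK.1
    rw [h, Subgroup.card_bot] at h1
    omega
  exact hr (EvenCyc.row C S hcyc hne (Spor.TwoCo1.pairFree hp hK.1 hK.2) (Spor.TwoCo1.sqDiff hp hK.1 hK.2))

end Cfsg.Agent.OddHalf.D4.Cov.RowCo1
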