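import Cfsg.Agent.OddHalf.D9.J2.PFacts
import Cfsg.Agent.OddHalf.D4.Cut

/-!
# ODD, D4: the row `2.J₂` (`D4.Cut.RowsCov.j2`)
-/

set_option autoImplicit false

namespace Cfsg.Agent.OddHalf.D4.Cov.RowJ2

open Cfsg Subgroup Cfsg.Agent.OddHalf

universe u

/-- **The row `2.J₂` of D4**, the field `j2` of `D4.Cut.RowsCov`. -/
theorem j2 : D4.Cut.Row0.{u} (fun K _ => D9.Cut.Two (fun X _ => Spor.IsoJ2 X) K) := by
  intro G _ C K S hr hK
  have := C.fin
  have hp : commutator ↥K = ⊤ := S.std.1.1.commutator_eq_top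
  have hcyc : IsCyclic ↥(center ↥K) := isCyclic_of_prime_card (p := 2) hK.1
  have hne : center ↥K ≠ ⊥ := by
    intro h
    have h1 := hK.1
    rw [h, Subgroup.card_bot] at h1
    omega
  have hf := D9.J2.PFacts.main (L := ↥K) hp hK.1 hK.2
  exact hr (EvenCyc.row C S hcyc hne hf.1 hf.2)

end Cfsg.Agent.OddHalf.D4.Cov.RowJ2
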