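import Cfsg.Agent.OddHalf.D4.M22.Main
import Cfsg.Agent.OddHalf.D4.Cut

/-!
# ODD, D4: the rows `2.M₂₂`, `4.M₂₂` (`D4.Cut.RowsCov.m22`, `D4.Cut.RowsCov.m22four`)
-/

set_option autoImplicit false

namespace Cfsg.Agent.OddHalf.D4.Cov.RowM22

open Cfsg Subgroup Cfsg.Agent.OddHalf

universe u

/-- **The row `2.M₂₂` of D4**, the field `m22` of `D4.Cut.RowsCov`. -/
theorem m22 : D4.Cut.Row0.{u} (fun K _ => D9.Cut.Two (fun X _ => Spor.IsoM22 X) K) := by
  intro G _ C K S hr hK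
  have := C.fin
  have hp : commutator ↥K = ⊤ := S.std.1.1.commutator_eq_top
  have hcyc : IsCyclic ↥(center ↥K) := isCyclic_of_prime_card (p := 2) hK.1
  have hne : center ↥K ≠ ⊥ := by
    intro h
    have h1 := hK.1
    rw [h, Subgroup.card_bot] at h1
    omega
  exact hr (EvenCyc.row C S hcyc hne (M22.Main.pairFree hp hK.2) (M22.Main.sqDiff hp hK.2))

/-- **The row `4.M₂₂` of D4**, the field `m22four` of `D4.Cut.RowsCov`. -/
theorem m22four : D4.Cut.Row0.{u} (fun K _ => Nat.card ↥(center K) = 4 ∧ IsCyclic ↥(center K) ∧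
    Spor.IsoM22 (K ⧸ center K)) := by
  intro G _ C K S hr hK
  have := C.fin
  have hp : commutator ↥K = ⊤ := S.std.1.1.commutator_eq_top
  have hne : center ↥K ≠ ⊥ := by
    intro h
    have h1 := hK.1
    rw [h, Subgroup.card_bot] at h1
    omega
  exact hr (EvenCyc.row C S hK.2.1 hne (M22.Main.pairFree hp hK.2.2) (M22.Main.sqDiff hp hK.2.2))

end Cfsg.Agent.OddHalf.D4.Cov.RowM22
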